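import Cfsg.Agent.SB.SporE.Gen
import Cfsg.Agent.SP.NJ3.Three
import Cfsg.Agent.H296.JT.Five
import Cfsg.Agent.S2067

/-!
# S5765, the row `J₃` (helper64)

The 2-local and the 3-local subgroups have regular orbits, the other local subgroups are small.
-/

set_option autoImplicit false

namespace Cfsg.Agent.SB.SporE

open Subgroup Cfsg Cfsg.Spor Cfsg.Agent.H786.FC Cfsg.Agent.SB.Spor Cfsg.Agent.SB.SporA
open Cfsg.Agent.H296.JT (fin_j3 card_j3 cn5)
open Cfsg.Agent.H59.EP (ElAb)
open Cfsg.Agent.SP.NJ3 (B2)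

namespace JThree

variable {K : Type} [Group K]

theorem cent_le (h : IsoJ3 K) (L3 : ∀ N : Subgroup K, ElAb 3 N → N ≠ ⊥ → B2 (normalizer (N : Set K))) {x : K}
    (hp : (orderOf x).Prime) : Nat.card (centralizer ({x} : Set K)) ≤ 7087 := by
  have := fin_j3 h
  have hd : orderOf x ∣ 50232960 := card_j3 h ▸ orderOf_dvd_natCard x
  rcases H898.J3Cent.prime_dvd_card hp hd with e | e | e | e | e
  · rw [SP.NJ3.cent_two h e]; norm_num
  · obtain ⟨t, ht⟩ := (L3 (zpowers x) ⟨by
        rintro _ ⟨a, rfl⟩ _ ⟨b, rfl⟩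
        exact (Commute.zpow_zpow_self x a b).eq, by
        rintro _ ⟨a, rfl⟩
        show (x ^ a) ^ 3 = 1
        rw [← zpow_natCast, ← zpow_mul, mul_comm, zpow_mul, zpow_natCast, ← e, pow_orderOf_eq_one, one_zpow]⟩
      (by rw [Ne, zpowers_eq_bot]; rintro rfl; simp at e)).mono (H := centralizer {x})
      fun g hg => SP.NJ3.comm_mem_norm (mem_centralizer_singleton_iff.1 hg)
    have h1 := sq_le_of_two ht
    rw [card_j3 h] at h1
    by_contra h2
    nlinarith
  · rw [(cn5 h e).1]; norm_num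
  · rw [(H898.J3Cent.seventeen h e).1]; norm_num
  · rw [H898.J3Cent.card_nineteen h e]; norm_num

theorem tri (h : IsoJ3 K) (L2 : ∀ N : Subgroup K, ElAb 2 N → N ≠ ⊥ → B2 (normalizer (N : Set K)))
    (L3 : ∀ N : Subgroup K, ElAb 3 N → N ≠ ⊥ → B2 (normalizer (N : Set K))) (S : Subgroup K)
    (hS : Group.IsSolvable S) : Tri S := by
  have := fin_j3 h
  have small : Nat.card S ≤ 361 → Tri S := fun h1 =>
    tri_of_small (c := 7087) (m := 7088) h1 (fun _ => cent_le h L3) (by rw [card_j3 h]; norm_num) (by norm_num)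
      (by rw [card_j3 h]; norm_num) (by rw [card_j3 h]; norm_num)
  by_cases h0 : S = ⊥
  · exact small (by rw [h0, card_bot]; norm_num)
  obtain ⟨X, r, k, z, hr, -, hXn, hab, hXr, hk, hz, hz1, ho⟩ := exists_el hS h0
  have hX0 : X ≠ ⊥ := fun e => hz1 (by simpa [e] using hz)
  have two : B2 (normalizer (X : Set K)) → Tri S := fun h1 => by
    obtain ⟨t, ht⟩ := h1.mono (le_normalizer_of_conj hXn)
    exact tri_of_two (by rw [card_j3 h]; norm_num) ht
  have h4 := card_subgroup_dvd_card X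
  rw [card_j3 h, hk] at h4
  have fin : ¬ r ^ 2 ∣ 50232960 → (r - 1) * Nat.card (centralizer ({z} : Set K)) ≤ 361 → Tri S := fun h1 h2 => by
    refine small (((card_le_sub hXn hz hz1).trans (Nat.mul_le_mul ?_ (card_le_of_le inf_le_right))).trans h2)
    have h3 : k ≤ 1 := not_lt.1 fun h3 => h1 ((pow_dvd_pow r h3).trans h4)
    have h5 := Nat.pow_le_pow_right hr.pos h3
    rw [pow_one] at h5
    rw [hk]
    omega
  have hd : r ∣ 50232960 := ho ▸ card_j3 h ▸ orderOf_dvd_natCard z
  rcases H898.J3Cent.prime_dvd_card hr hd with rfl | rfl | rfl | rfl | rfl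
  · exact two (L2 X ⟨hab, hXr⟩ hX0)
  · exact two (L3 X ⟨hab, hXr⟩ hX0)
  · exact fin (by norm_num) (by rw [(cn5 h ho).1]; norm_num)
  · exact fin (by norm_num) (by rw [(H898.J3Cent.seventeen h ho).1]; norm_num)
  · exact fin (by norm_num) (by rw [H898.J3Cent.card_nineteen h ho]; norm_num)

end JThree

/-- **The row of the third Janko group.** -/
theorem row_J3 (K : Type*) [Group K] (h : IsoJ3 K) : Row K := by
  obtain ⟨F, _, _, ω, hF, hω, ⟨e⟩⟩ := h
  refine Row.of_equiv e ?_
  have H := J3.Core.good_of_card hF hω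
  have h := SP.NJ3.iso hF H
  have := fin_j3 h
  have := (H898.J3Cent.base h).1
  exact row_of_four (not_comm_of_card (by rw [card_j3 h]; norm_num)) (S2067.result hF ω hω).le
    (JThree.tri h (fun _ => SP.NJ3.two_local H hF) fun _ => SP.NJ3.three_local hF H)

end Cfsg.Agent.SB.SporE
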