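import Cfsg.Agent.SB.SporA.Tool

/-!
# S5765, sporadic rows: tools (helper64)

`Tri S` : the three conditions of `row_of_four`; `tri_of_two` (base size two), `tri_of_small` (counting).
-/

set_option autoImplicit false

namespace Cfsg.Agent.SB.SporE

open Subgroup Cfsg Cfsg.Agent.H786.FC Cfsg.Agent.SB.Mon Cfsg.Agent.SB.SporD Cfsg.Agent.SB.Spor Cfsg.Agent.SB.SporA

variable {G : Type*} [Group G] [Finite G]

/-- the conditions of `row_of_four` -/
def Tri (S : Subgroup G) : Prop :=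
  Four ⊤ S ∧ (∀ u : G, u ≠ 1 → 2 * hc S u ≤ Nat.card G) ∧ 49 * Nat.card S ≤ Nat.card G

theorem sq_le_of_two {S : Subgroup G} {t : G} (h : ∀ x ∈ S, t⁻¹ * x * t ∈ S → x = 1) :
    Nat.card S * Nat.card S ≤ Nat.card G := by
  rw [← Nat.card_prod]
  refine Nat.card_le_card_of_injective (fun q : S × S => (q.1 : G) * t * q.2) ?_
  rintro ⟨a, b⟩ ⟨c, d⟩ e
  have e' : (a : G) * t * b = c * t * d := e
  have h1 : t⁻¹ * ((c : G)⁻¹ * a) * t = d * (b : G)⁻¹ := by
    calc t⁻¹ * ((c : G)⁻¹ * a) * t = t⁻¹ * (c : G)⁻¹ * (a * t * b) * (b : G)⁻¹ := by group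
      _ = d * (b : G)⁻¹ := by rw [e']; group
  have h2 := h _ (mul_mem (inv_mem c.2) a.2) (h1 ▸ mul_mem d.2 (inv_mem b.2))
  have h3 : a = c := Subtype.ext (inv_mul_eq_one.1 h2).symm
  subst h3
  rw [Subtype.ext (mul_left_cancel e' : (b : G) = d)]

theorem two_hc_le {S : Subgroup G} {t : G} (h : ∀ x ∈ S, t⁻¹ * x * t ∈ S → x = 1) {u : G} (hu : u ≠ 1) :
    2 * hc S u ≤ Nat.card G := by
  rw [two_mul, hc, ← Nat.card_sum]
  refine Nat.card_le_card_of_injective (Sum.elim (fun g => g.1) fun g => g.1 * t⁻¹) ?_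
  have key : ∀ a b : {g : G // g⁻¹ * u * g ∈ S}, a.1 ≠ b.1 * t⁻¹ := fun a b e => by
    have h1 : b.1 = a.1 * t := by rw [e]; group
    have h2 := b.2
    rw [h1] at h2
    have h3 := h _ a.2 (by simpa [mul_assoc] using h2)
    exact hu (by rw [show u = a.1 * (a.1⁻¹ * u * a.1) * a.1⁻¹ by group, h3]; group)
  rintro (a | a) (b | b) e
  · exact congrArg _ (Subtype.ext e)
  · exact absurd e (key a b)
  · exact absurd e.symm (key b a)
  · exact congrArg _ (Subtype.ext (mul_right_cancel e))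

/-- base size two -/
theorem tri_of_two (hG : 2401 ≤ Nat.card G) {S : Subgroup G} {t : G} (h : ∀ x ∈ S, t⁻¹ * x * t ∈ S → x = 1) :
    Tri S := by
  refine ⟨four_of_one (mem_top t) h, fun _ hu => two_hc_le h hu, ?_⟩
  have h1 := sq_le_of_two h
  by_cases h2 : Nat.card S ≤ 49
  · omega
  · nlinarith

/-- a bound `n` for the order of `S` and a bound `c` for the centralizers -/
theorem tri_of_small {S : Subgroup G} {n c m : ℕ} (hn : Nat.card S ≤ n)
    (hc' : ∀ x : G, (orderOf x).Prime → Nat.card (centralizer ({x} : Set G)) ≤ c)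
    (h1 : c * m ≤ Nat.card G) (h2 : n ^ 4 ≤ m ^ 3) (h3 : 2 * (n * c) ≤ Nat.card G) (h4 : 49 * n ≤ Nat.card G) :
    Tri S := by
  refine ⟨four_of_card m ((Nat.pow_le_pow_left hn 4).trans h2) fun x _ hp => ?_, fun u hu => ?_,
    (Nat.mul_le_mul_left _ hn).trans h4⟩
  · have h5 := cls_mul_card ⊤ x
    rw [top_inf_eq, card_top] at h5
    have h6 : 0 < c := lt_of_lt_of_le Nat.card_pos (hc' x hp)
    refine Nat.le_of_mul_le_mul_left (h1.trans ?_) h6
    rw [← h5]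
    exact Nat.mul_le_mul_right _ (hc' x hp)
  · obtain ⟨x, hx, hp⟩ := exists_prime_order_zpowers hu
    exact (Nat.mul_le_mul_left _ ((hc_le_of_mem S hx).trans ((hc_le S x).trans
      (Nat.mul_le_mul hn (hc' x hp))))).trans h3

omit [Finite G] in
theorem not_comm_of_card [IsSimpleGroup G] (h : ¬ (Nat.card G).Prime) : ¬ IsMulCommutative G := fun hc => by
  let _ : CommGroup G := { (inferInstance : Group G) with mul_comm := hc.is_comm.comm }
  exact h IsSimpleGroup.prime_card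

/-- a minimal normal subgroup of a solvable group, with an element -/
theorem exists_el {S : Subgroup G} (hS : Group.IsSolvable S) (h0 : S ≠ ⊥) :
    ∃ (X : Subgroup G) (r k : ℕ) (z : G), r.Prime ∧ X ≤ S ∧ (∀ s ∈ S, ∀ x ∈ X, s * x * s⁻¹ ∈ X) ∧
      (∀ x ∈ X, ∀ y ∈ X, x * y = y * x) ∧ (∀ x ∈ X, x ^ r = 1) ∧ Nat.card X = r ^ k ∧ z ∈ X ∧ z ≠ 1 ∧ orderOf z = r := by
  obtain ⟨X, h1, hX0, hXn, -, hab, ⟨r, hr, hXr⟩, -⟩ := exists_min hS h0 le_rfl
    fun s hs y hy => mul_mem (mul_mem hs hy) (inv_mem hs)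
  have : Fact r.Prime := ⟨hr⟩
  obtain ⟨⟨z, hz⟩, hz1⟩ := ne_bot_iff_exists_ne_one.1 hX0
  have hz1' : z ≠ 1 := fun e => hz1 (Subtype.ext e)
  obtain ⟨k, hk⟩ := IsPGroup.iff_card.1 (show IsPGroup r X from fun x => ⟨1, Subtype.ext (by simpa using hXr x x.2)⟩)
  exact ⟨X, r, k, z, hr, h1, hXn, hab, hXr, hk, hz, hz1', orderOf_eq_prime (hXr z hz) hz1'⟩

end Cfsg.Agent.SB.SporE
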